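import Cfsg.Agent.TwoRegular.Setup
import Cfsg.Agent.ItoSizes.Free
import Cfsg.Agent.Coprime.Sylow
import Cfsg.Agent.FGSB.PRegClass

/-!
Two class sizes of `q`-regular elements: the structure theorem.
-/

set_option autoImplicit false
set_option linter.unusedSectionVars false
set_option linter.style.haveILetI false

namespace CfsgLib.TwoRegular

open Subgroup CfsgLib.TwoLargest CfsgLib.CoprimeSizes CfsgLib.ItoSizes

variable {G : Type*} [Group G] [Finite G] {q n s : ℕ}

theorem coprime_map {H : Type*} [Group H] (f : G →* H) {x : G} (hx : (orderOf x).Coprime q) :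
    (orderOf (f x)).Coprime q :=
  hx.coprime_dvd_left (orderOf_map_dvd f x)

/-- Centralisers of regular elements cover those modulo a normal `q`-subgroup. -/
theorem C_map [Fact q.Prime] (O : Subgroup G) [O.Normal] (hO : IsPGroup q O) {a : G}
    (ha : (orderOf a).Coprime q) : C (QuotientGroup.mk' O a) = (C a).map (QuotientGroup.mk' O) := by
  refine le_antisymm (fun u hu => ?_) ?_
  · obtain ⟨g, rfl⟩ := QuotientGroup.mk'_surjective O u
    haveI : Group.IsSolvable (zpowers a) :=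
      Group.isSolvable_of_comm fun u v => (IsMulCommutative.is_comm (M := zpowers a)).comm u v
    obtain ⟨j, hj⟩ := hO.exists_card_eq
    obtain ⟨c, hc, hcO⟩ := Coprime.exists_commute_mem_coset (zpowers a) O le_normalizer_of_normal
      (by rw [Nat.card_zpowers, hj]; exact ha.pow_right j) g (fun v hv => by
        obtain ⟨i, rfl⟩ := hv
        refine (QuotientGroup.eq_one_iff _).1 ?_
        show QuotientGroup.mk' O _ = 1
        rw [map_mul, map_inv, map_mul, map_mul, map_inv, map_zpow,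
          ((mem_C.1 hu).zpow_left i).eq, mul_inv_cancel_right, inv_mul_cancel])
    refine ⟨c, mem_C.2 (hc a (mem_zpowers a)), ?_⟩
    exact (QuotientGroup.eq.2 hcO).symm
  · rintro _ ⟨c, hc, rfl⟩
    exact mem_C.2 ((mem_C.1 hc).map _)

/-- Images have the same parts for the primes other than `q`. -/
theorem ex_map [Fact q.Prime] (O : Subgroup G) [O.Normal] (hO : IsPGroup q O) (H : Subgroup G)
    (hs : s.Prime) (hsq : s ≠ q) : ex s (H.map (QuotientGroup.mk' O)) = ex s H := by
  set f := QuotientGroup.mk' O with hf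
  have h1 : Nat.card ↥(f.ker ⊓ H : Subgroup G) * Nat.card ↥(H.map f) = Nat.card H := by
    rw [← Subgroup.relIndex_ker, ← Subgroup.inf_relIndex_right f.ker H, ← Subgroup.relIndex_bot_left,
      ← Subgroup.relIndex_bot_left]
    exact Subgroup.relIndex_mul_relIndex _ _ _ bot_le inf_le_right
  have hK : IsPGroup q ↥(f.ker ⊓ H : Subgroup G) :=
    hO.to_le (inf_le_left.trans (QuotientGroup.ker_mk' O).le)
  obtain ⟨j, hj⟩ := hK.exists_card_eq
  show (Nat.card (H.map f)).factorization s = (Nat.card H).factorization s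
  rw [← h1, hj, Nat.factorization_mul (pow_pos (Fact.out : q.Prime).pos j).ne' Nat.card_pos.ne',
    Finsupp.add_apply, (Fact.out : q.Prime).factorization_pow, Finsupp.single_eq_of_ne hsq, zero_add]

theorem Two.false_of_dvd (h : Two G q n) (hs : s.Prime) (hsq : s ≠ q) (hn : s ∣ n) {x₀ : G}
    (hx₀ : (orderOf x₀).Coprime q) (hx₀c : x₀ ∉ center G) : False := by
  classical
  haveI := Fact.mk h.prime
  haveI := Fact.mk hs
  have hlt : ∀ x : G, (orderOf x).Coprime q → x ∉ center G →
      ex s (C x) < (Nat.card G).factorization s := by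
    intro x hx hxc
    have h1 := ex_C_add x s
    rw [h.sizes x hx hxc] at h1
    have h2 := hs.factorization_pos_of_dvd (h.sizes x hx hxc ▸ (k_pos x).ne' : n ≠ 0) hn
    omega
  have hsπ : other' G q s :=
    ⟨hs, hsq, lt_of_le_of_lt (ex_mono s (center_le_C x₀)) (hlt x₀ hx₀ hx₀c)⟩
  obtain ⟨O, hOdef⟩ : ∃ O, O = Cfsg.pCore q G := ⟨_, rfl⟩
  haveI hOn : O.Normal := hOdef ▸ (Solvable.pCore_spec (p := q) (G := G)).1
  have hOp : IsPGroup q O := hOdef ▸ (Solvable.pCore_spec (p := q) (G := G)).2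
  obtain ⟨f, hfdef⟩ : ∃ f, f = QuotientGroup.mk' O := ⟨_, rfl⟩
  have hfs : Function.Surjective f := hfdef ▸ QuotientGroup.mk'_surjective O
  have hC : ∀ a : G, (orderOf a).Coprime q → C (f a) = (C a).map f := fun a ha => by
    rw [hfdef]; exact C_map O hOp ha
  have hex : ∀ (H : Subgroup G) (d : ℕ), d.Prime → d ≠ q → ex d (H.map f) = ex d H := fun H d hd hdq => by
    rw [hfdef]; exact ex_map O hOp H hd hdq
  have hcard : ∀ d : ℕ, d.Prime → d ≠ q →
      (Nat.card (G ⧸ O)).factorization d = (Nat.card G).factorization d := by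
    intro d hd hdq
    have h1 := hex ⊤ d hd hdq
    rw [Subgroup.map_top_of_surjective f hfs] at h1
    simpa [ex, Subgroup.card_top] using h1
  have hker : ∀ w : G, w ∈ O → f w = 1 := fun w hw => by
    rw [hfdef]; exact (QuotientGroup.eq_one_iff w).2 hw
  -- elements of the images are images of regular elements
  have hB : ∀ {r : ℕ} {x : G}, Pt G q r x → ∀ g ∈ C x,
      ∃ w, w ∈ C x ∧ (orderOf w).Coprime q ∧ f g = f w := by
    intro r x hx g hg
    obtain ⟨a, b, hab, haz, hbz, ha, hb⟩ := FGSBSmall.exists_prime_split h.prime g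
    refine ⟨b, zpowers_le.2 hg hbz, hb, ?_⟩
    rw [← hab, map_mul, hker a (hOdef ▸ h.mem_pCore hx ha (zpowers_le.2 hg haz)), one_mul]
  -- the centre
  have hfc : ∀ z ∈ center G, f z ∈ center (G ⧸ O) := fun z hz => Subgroup.mem_center_iff.2 fun u => by
    obtain ⟨g, rfl⟩ := hfs u
    rw [← map_mul, ← map_mul, Subgroup.mem_center_iff.1 hz g]
  have hZ : center (G ⧸ O) = (center G).map f := by
    refine le_antisymm (fun y hy => ?_) (by rintro _ ⟨z, hz, rfl⟩; exact hfc z hz)
    obtain ⟨g, rfl⟩ := hfs y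
    obtain ⟨a, b, hab, haz, hbz, ha, hb⟩ := FGSBSmall.exists_prime_split h.prime g
    have hmem : ∀ u ∈ zpowers g, f u ∈ center (G ⧸ O) := by
      rintro _ ⟨i, rfl⟩
      rw [map_zpow]
      exact zpow_mem hy i
    have hbc : b ∈ center G := by
      by_contra hbc
      have h1 : C (f b) = ⊤ := eq_top_iff.2 fun u _ =>
        mem_C.2 (Subgroup.mem_center_iff.1 (hmem b hbz) u).symm
      rw [hC b hb] at h1
      have h2 := hex (C b) s hs hsq
      rw [h1] at h2
      simp only [ex, Subgroup.card_top] at h2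
      have h3 := hlt b hb hbc
      rw [hcard s hs hsq] at h2
      simp only [ex] at h3
      omega
    refine ⟨b, hbc, ?_⟩
    obtain ⟨W, hW⟩ : ∃ W, W = part q (center (G ⧸ O)) := ⟨_, rfl⟩
    have hWp : IsPGroup q W := hW ▸ (part_spec (inferInstance : IsMulCommutative (center (G ⧸ O)))).1
    haveI hWn : W.Normal := ⟨fun u hu v => by
      rwa [conj_center (part_le q _ (hW ▸ hu)) v]⟩
    have hle : W.comap f ≤ O := by
      refine le_of_le_of_eq ?_ hOdef.symm
      refine Solvable.le_pCore q (hWn.comap f) (IsPGroup.comap_of_ker_isPGroup hWp f ?_)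
      rw [hfdef, QuotientGroup.ker_mk']; exact hOp
    have ha1 : f a = 1 := hker a (hle (Subgroup.mem_comap.2
      (hW ▸ mem_part (hmem a haz) (isS_map f ha))))
    rw [← hab, map_mul, ha1, one_mul]
  have hπ : ∀ d, other' (G ⧸ O) q d ↔ other' G q d := by
    intro d
    refine ⟨fun hd => ⟨hd.1, hd.2.1, ?_⟩, fun hd => ⟨hd.1, hd.2.1, ?_⟩⟩ <;>
    · have h1 := hd.2.2
      have h2 := hex (center G) d hd.1 hd.2.1
      rw [← hZ] at h2
      simp only [ex] at h2
      have h3 := hcard d hd.1 hd.2.1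
      omega
  have hlift : ∀ (d : ℕ) (e : G ⧸ O), other' (G ⧸ O) q d → IsS d e → e ∉ center (G ⧸ O) →
      ∃ x : G, Pt G q d x ∧ f x = e := by
    intro d e hd hes hec
    obtain ⟨x, hx, hxd⟩ := FGSBSmall.exists_pi_lift O (fun r => r = d) e fun r hr hdvd => by
      obtain ⟨i, hi⟩ := hes
      exact (Nat.prime_dvd_prime_iff_eq hr hd.1).1 (hr.dvd_of_dvd_pow (hi ▸ hdvd))
    have hxe : f x = e := hfdef ▸ hx
    exact ⟨x, ⟨(hπ d).1 hd, ⟨_, Nat.eq_prime_pow_of_unique_prime_dvd (orderOf_pos x).ne'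
      fun {r} hr hdvd => hxd r hr hdvd⟩, fun hc => hec (hxe ▸ hfc x hc)⟩, hxe⟩
  have hcomp : ∀ B : Subgroup (G ⧸ O), IsComp (other' (G ⧸ O) q) B →
      ∃ (r : ℕ) (x : G), Pt G q r x ∧ B = (C x).map f := by
    rintro B ⟨d, e, hd, hes, hec, rfl⟩
    obtain ⟨x, hx, rfl⟩ := hlift d e hd hes hec
    exact ⟨d, x, hx, hC x (hx.coprime h.prime)⟩
  have hcomm : ∀ {r : ℕ} {x : G}, Pt G q r x → IsMulCommutative ((C x).map f) := by
    intro r x hx
    refine ⟨⟨fun u v => Subtype.ext ?_⟩⟩
    obtain ⟨g, hg, eg⟩ := u.2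
    obtain ⟨g', hg', eg'⟩ := v.2
    obtain ⟨w, hw, hwr, ew⟩ := hB hx g hg
    obtain ⟨w', hw', hwr', ew'⟩ := hB hx g' hg'
    show (u : G ⧸ O) * v = v * u
    rw [← eg, ← eg', ew, ew']
    exact ((commute_of_isComm (A_comm x) (h.mem_A hx hwr hw) (h.mem_A hx hwr' hw')).map f).eq
  have hone : OneFam (G ⧸ O) q := by
    refine ⟨⟨fun d hd => hd.1, fun d e hd hes hec => ?_, fun d e hd hes hec => ?_⟩, h.prime, ?_, ?_, ?_, ?_⟩
    · obtain ⟨x, hx, rfl⟩ := hlift d e hd hes hec
      rw [hC x (hx.coprime h.prime)]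
      exact hcomm hx
    · obtain ⟨x, hx, rfl⟩ := hlift d e hd hes hec
      obtain ⟨u, v, hu, hv, huv⟩ := h.two
      obtain ⟨t, ht, htd⟩ : ∃ w, other' G q w ∧ w ≠ d := by
        by_cases hud : u = d
        · exact ⟨v, hv, fun e => huv (hud.trans e.symm)⟩
        · exact ⟨u, hu, hud⟩
      haveI := Fact.mk ht.1
      have hr : ex t (center (G ⧸ O)) < ex t ((C x).map f) := by
        rw [hZ, hex _ t ht.1 ht.2.1, hex _ t ht.1 ht.2.1]
        exact h.rich (hx.coprime h.prime) hx.2.2 ht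
      obtain ⟨y, hy, hys, hyc⟩ := exists_isS_notMem hr
      exact ⟨t, y, (hπ t).2 ht, htd, hys, (hC x (hx.coprime h.prime)).ge hy, hyc⟩
    · obtain ⟨u, v, hu, hv, huv⟩ := h.two
      exact ⟨u, v, (hπ u).2 hu, (hπ v).2 hv, huv⟩
    · intro B B' hB1 hB1'
      obtain ⟨r, x, hx, rfl⟩ := hcomp B hB1
      obtain ⟨r', x', hx', rfl⟩ := hcomp B' hB1'
      have hq0 : ∀ {r : ℕ} {x : G}, Pt G q r x → (Nat.card ((C x).map f)).factorization q = 0 := by
        intro r x hx
        refine Nat.factorization_eq_zero_of_not_dvd fun hd => ?_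
        obtain ⟨⟨v, g, hg, rfl⟩, hv⟩ := exists_prime_orderOf_dvd_card' q hd
        obtain ⟨w, -, hwr, ew⟩ := hB hx g hg
        have hv' : orderOf (f w) = q := ew ▸ (Subgroup.orderOf_coe _).trans hv
        have h1 := coprime_map f hwr
        rw [hv'] at h1
        exact h.prime.ne_one (Nat.coprime_self q |>.1 h1)
      refine Nat.eq_of_factorization_eq Nat.card_pos.ne' Nat.card_pos.ne' fun d => ?_
      by_cases hd : d.Prime
      swap
      · rw [Nat.factorization_eq_zero_of_not_prime _ hd, Nat.factorization_eq_zero_of_not_prime _ hd]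
      by_cases hdq : d = q
      · rw [hdq, hq0 hx, hq0 hx']
      have h1 := h.ex_eq (hx.coprime h.prime) hx.2.2 (hx'.coprime h.prime) hx'.2.2 d
      rwa [← hex _ d hd hdq, ← hex _ d hd hdq] at h1
    · intro B hB1 d hd
      obtain ⟨r, x, hx, rfl⟩ := hcomp B hB1
      rw [hZ, hex _ d hd.1 hd.2.1, hex _ d hd.1 hd.2.1]
      exact h.rich (hx.coprime h.prime) hx.2.2 ((hπ d).1 hd)
    · intro d g a hgc hd has hac hag
      obtain ⟨x, hx, rfl⟩ := hlift d a hd has hac
      obtain ⟨g₀, hg₀, rfl⟩ : g ∈ (C x).map f := hC x (hx.coprime h.prime) ▸ mem_C_comm.1 hag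
      obtain ⟨w, hw, hwr, ew⟩ := hB hx g₀ hg₀
      have hwc : w ∉ center G := fun hc => hgc (ew ▸ hfc w hc)
      rw [ew, hC w hwr, h.C_eq_of_mem hx hwr hwc hw, hC x (hx.coprime h.prime)]
  obtain ⟨x, hx⟩ := h.exists_pt hsπ
  have hxc : f x ∉ center (G ⧸ O) := by
    intro hc
    rw [hZ] at hc
    obtain ⟨z, hz, e⟩ := hc
    have e1 : x⁻¹ * z ∈ O := QuotientGroup.eq.1 (by rw [hfdef] at e; exact e.symm)
    refine hx.2.2 ?_
    -- `x` is the regular part of the central element `x * (x⁻¹ * z)`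
    have hcm : Commute x (x⁻¹ * z) :=
      (Commute.refl x).inv_right.mul_right (Subgroup.mem_center_iff.1 hz x)
    obtain ⟨j, hj⟩ := IsPGroup.iff_orderOf.1 hOp ⟨_, e1⟩
    rw [Subgroup.orderOf_mk] at hj
    have hco : (orderOf x).Coprime (orderOf (x⁻¹ * z)) := hj ▸ (hx.coprime h.prime).pow_right j
    refine Subgroup.mem_center_iff.2 fun g => ?_
    have h1 : g ∈ C (x * (x⁻¹ * z)) := by
      rw [mul_inv_cancel_left]
      exact mem_C.2 (Subgroup.mem_center_iff.1 hz g).symm
    rw [C_mul hcm hco] at h1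
    exact ((mem_C.1 (mem_inf.1 h1).1).eq).symm
  have h1 := hone.full (A := C (f x)) (isComp_C ((hπ s).2 hsπ) (isS_map f hx.2.1) hxc) ((hπ s).2 hsπ)
  rw [hC x (hx.coprime h.prime), hex _ s hs hsq, hcard s hs hsq] at h1
  exact absurd h1 (hlt x (hx.coprime h.prime) hx.2.2).ne

/-- One prime besides `q` with a noncentral Sylow subgroup. -/
theorem exists_direct {r : ℕ} (hq : q.Prime) [Fact r.Prime] (hrq : r ≠ q)
    (hcen : ∀ d : ℕ, d.Prime → d ≠ q → d ≠ r → ¬ other' G q d) (P : Sylow q G) (Q : Sylow r G) :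
    ∃ A : Subgroup G, A ≤ center G ∧
      Nat.card ↥((P : Subgroup G) ⊔ (Q : Subgroup G)) = Nat.card P * Nat.card Q ∧
      ((P : Subgroup G) ⊔ (Q : Subgroup G)).Normal ∧
      ((P : Subgroup G) ⊔ (Q : Subgroup G)) ⊓ A = ⊥ ∧ ((P : Subgroup G) ⊔ (Q : Subgroup G)) ⊔ A = ⊤ := by
  classical
  haveI := Fact.mk hq
  have hr : r.Prime := Fact.out
  let A : Subgroup G :=
    { carrier := {z | z ∈ center G ∧ (orderOf z).Coprime (q * r)}
      one_mem' := ⟨one_mem _, by simp⟩
      mul_mem' := fun {z w} hz hw => ⟨mul_mem hz.1 hw.1, (hz.2.mul_left hw.2).coprime_dvd_left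
        ((show Commute z w from (Subgroup.mem_center_iff.1 hz.1 w).symm).orderOf_mul_dvd_mul_orderOf)⟩
      inv_mem' := fun {z} hz => ⟨inv_mem hz.1, by rw [orderOf_inv]; exact hz.2⟩ }
  have hmemA : ∀ z, z ∈ A ↔ z ∈ center G ∧ (orderOf z).Coprime (q * r) := fun z => Iff.rfl
  have hAc : A ≤ center G := fun z hz => ((hmemA z).1 hz).1
  haveI hAn : A.Normal := ⟨fun z hz g => by rwa [conj_center (hAc hz) g]⟩
  have hA1 : ∀ d : ℕ, d.Prime → d ∣ Nat.card A → d ≠ q ∧ d ≠ r := by
    intro d hd hdd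
    haveI := Fact.mk hd
    obtain ⟨⟨z, hz⟩, hzo⟩ := exists_prime_orderOf_dvd_card' d hdd
    rw [Subgroup.orderOf_mk] at hzo
    have h1 := ((hmemA z).1 hz).2
    rw [hzo, Nat.coprime_mul_iff_right, Nat.coprime_primes hd hq, Nat.coprime_primes hd hr] at h1
    exact h1
  have hA2 : ∀ d : ℕ, d.Prime → d ∣ A.index → d = q ∨ d = r := by
    intro d hd hdd
    by_contra hne
    push Not at hne
    haveI := Fact.mk hd
    obtain ⟨R⟩ : Nonempty (Sylow d G) := inferInstance
    obtain ⟨hp, hpc⟩ := part_spec (s := d) (inferInstance : IsMulCommutative (center G))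
    have hle : (R : Subgroup G) ≤ part d (center G) := by
      obtain ⟨R', hR'⟩ := hp.exists_le_sylow
      have hfull : (Nat.card G).factorization d ≤ ex d (center G) :=
        not_lt.1 fun hlt => hcen d hd hne.1 hne.2 ⟨hd, hne.1, hlt⟩
      have heq : part d (center G) = (R' : Subgroup G) := Subgroup.eq_of_le_of_card_ge hR'
        (by rw [hpc, R'.card_eq_multiplicity]; exact Nat.pow_le_pow_right hd.pos hfull)
      obtain ⟨g, hg⟩ := MulAction.exists_smul_eq G R' R
      intro u hu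
      rw [← hg, Sylow.coe_subgroup_smul] at hu
      obtain ⟨w, hw, rfl⟩ := hu
      have hwp : w ∈ part d (center G) := by rw [heq]; exact hw
      have hwc : g * w * g⁻¹ = w := conj_center (part_le d _ hwp) g
      show MulAut.conj g w ∈ _
      rw [MulAut.conj_apply, hwc]
      exact hwp
    refine R.not_dvd_index (hdd.trans (Subgroup.index_dvd_of_le fun u hu => (hmemA u).2
      ⟨part_le d _ (hle hu), ?_⟩))
    have hus := isS_of_mem R.2 hu
    exact (coprime_of_isS hq hd hne.1 hus).mul_right (coprime_of_isS hr hd hne.2 hus)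
  have hco : (Nat.card A).Coprime A.index := Nat.coprime_of_dvd fun d hd h1 h2 => by
    rcases hA2 d hd h2 with e | e
    · exact (hA1 d hd h1).1 e
    · exact (hA1 d hd h1).2 e
  obtain ⟨M, hM⟩ := Subgroup.exists_right_complement'_of_coprime hco
  have hsup : A ⊔ M = ⊤ := hM.sup_eq_top
  haveI hMn : M.Normal := by
    rw [← Subgroup.normalizer_eq_top_iff, eq_top_iff, ← hsup]
    refine sup_le (fun z hz => mem_normalizer_iff.2 fun u => ?_) le_normalizer
    rw [show z * u * z⁻¹ = u by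
      rw [← Subgroup.mem_center_iff.1 (hAc hz) u, mul_inv_cancel_right]]
  have hidx : M.index = Nat.card A := by
    have h1 := hM.card_mul_card
    rw [← M.card_mul_index, mul_comm] at h1
    exact (Nat.eq_of_mul_eq_mul_left Nat.card_pos h1).symm
  have hle : ∀ {d : ℕ} (R : Subgroup G), d.Prime → IsPGroup d R → (d = q ∨ d = r) → R ≤ M := by
    intro d R hd hR hdqr u hu
    haveI := Fact.mk hd
    have h1 : u ^ Nat.card A ∈ M := hidx ▸ Subgroup.pow_index_mem M u
    obtain ⟨e, he⟩ := isS_of_mem hR hu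
    obtain ⟨m, hm⟩ := exists_pow_eq_self_of_coprime (x := u) (n := Nat.card A) (by
      rw [he]
      refine Nat.Coprime.pow_right e ((hd.coprime_iff_not_dvd.2 fun hdd => ?_).symm)
      rcases hdqr with e | e
      · exact (hA1 d hd hdd).1 e
      · exact (hA1 d hd hdd).2 e)
    exact hm ▸ pow_mem h1 m
  have hPM := hle (P : Subgroup G) hq P.2 (Or.inl rfl)
  have hQM := hle (Q : Subgroup G) hr Q.2 (Or.inr rfl)
  have hJM : (P : Subgroup G) ⊔ (Q : Subgroup G) ≤ M := sup_le hPM hQM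
  have hcoPQ : (Nat.card P).Coprime (Nat.card Q) := by
    rw [P.card_eq_multiplicity, Q.card_eq_multiplicity]
    exact Nat.Coprime.pow _ _ ((Nat.coprime_primes hq hr).2 hrq.symm)
  have h1 : Nat.card P * Nat.card Q ∣ Nat.card ↥((P : Subgroup G) ⊔ (Q : Subgroup G)) :=
    hcoPQ.mul_dvd_of_dvd_of_dvd (Subgroup.card_dvd_of_le le_sup_left) (Subgroup.card_dvd_of_le le_sup_right)
  have hMcard : Nat.card M ∣ Nat.card P * Nat.card Q := by
    have hMidx : Nat.card M = A.index := by
      have h2 := hM.card_mul_card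
      rw [← A.card_mul_index] at h2
      exact Nat.eq_of_mul_eq_mul_left Nat.card_pos h2
    refine (Nat.factorization_le_iff_dvd Nat.card_pos.ne' (Nat.mul_pos Nat.card_pos Nat.card_pos).ne').1 fun d => ?_
    have hG : (Nat.card M).factorization d ≤ (Nat.card G).factorization d :=
      (Nat.factorization_le_iff_dvd Nat.card_pos.ne' Nat.card_pos.ne').2 M.card_subgroup_dvd_card d
    by_cases hd : d.Prime ∧ d ∣ Nat.card M
    swap
    · rw [Nat.factorization_eq_zero_iff _ d |>.2 (by tauto)]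
      exact Nat.zero_le _
    rw [P.card_eq_multiplicity, Q.card_eq_multiplicity, Nat.factorization_mul (pow_pos hq.pos _).ne'
      (pow_pos hr.pos _).ne', Finsupp.add_apply, hq.factorization_pow, hr.factorization_pow]
    rcases hA2 d hd.1 (hMidx ▸ hd.2) with e | e <;> subst e
    · rw [Finsupp.single_eq_same]; omega
    · rw [Finsupp.single_eq_same]; omega
  have hcardJ : Nat.card ↥((P : Subgroup G) ⊔ (Q : Subgroup G)) = Nat.card P * Nat.card Q :=
    Nat.dvd_antisymm ((Subgroup.card_dvd_of_le hJM).trans hMcard) h1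
  have hJeq : (P : Subgroup G) ⊔ (Q : Subgroup G) = M := Subgroup.eq_of_le_of_card_ge hJM
    (hcardJ ▸ Nat.le_of_dvd (Nat.mul_pos Nat.card_pos Nat.card_pos) hMcard)
  refine ⟨A, hAc, hcardJ, hJeq.symm ▸ hMn, ?_, ?_⟩
  · rw [hJeq, inf_comm]; exact hM.disjoint.eq_bot
  · rw [hJeq, sup_comm]; exact hsup

end CfsgLib.TwoRegular
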