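import Cfsg.Agent.ItoSizes.OneFamily
import Cfsg.Agent.Solvable.Fitting

/-!
Two class sizes of `q`-regular elements: the centralisers of the noncentral `q`-regular elements.
-/

set_option autoImplicit false
set_option linter.unusedSectionVars false
set_option linter.style.haveILetI false

namespace CfsgLib.TwoRegular

open Subgroup CfsgLib.TwoLargest CfsgLib.CoprimeSizes CfsgLib.ItoSizes

/-- Two `q`-regular class sizes, and two primes other than `q` with noncentral Sylow subgroups. -/
structure Two (G : Type*) [Group G] (q n : ℕ) : Prop where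
  prime : q.Prime
  sizes : ∀ x : G, (orderOf x).Coprime q → x ∉ center G → k x = n
  two : ∃ r t, other' G q r ∧ other' G q t ∧ r ≠ t

/-- A noncentral `r`-element, `r ≠ q`. -/
def Pt (G : Type*) [Group G] (q r : ℕ) (x : G) : Prop :=
  other' G q r ∧ IsS r x ∧ x ∉ center G

variable {G : Type*} [Group G] [Finite G] {q n r s t : ℕ} {x y a : G}

/-- The centre of a centraliser. -/
abbrev A (x : G) : Subgroup G := C x ⊓ centralizer ((C x : Subgroup G) : Set G)

/-- The `s`-part of the centre of a centraliser. -/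
abbrev T (s : ℕ) (x : G) : Subgroup G := part s (A x)

theorem A_comm (x : G) : IsMulCommutative (A x) := ⟨⟨fun u v => Subtype.ext
  (mem_centralizer_iff.1 (mem_inf.1 v.2).2 u (mem_inf.1 u.2).1)⟩⟩

theorem mem_normalizer_A {g : G} (hg : g ∈ normalizer ((C x : Subgroup G) : Set G)) :
    g ∈ normalizer ((A x : Subgroup G) : Set G) := by
  have key : ∀ h ∈ normalizer ((C x : Subgroup G) : Set G), ∀ u ∈ A x, h * u * h⁻¹ ∈ A x := by
    intro h hh u hu
    refine mem_inf.2 ⟨(mem_normalizer_iff.1 hh u).1 (mem_inf.1 hu).1, mem_centralizer_iff.2 fun v hv => ?_⟩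
    have h1 := mem_centralizer_iff.1 (mem_inf.1 hu).2 (h⁻¹ * v * h)
      (by simpa using (mem_normalizer_iff.1 (inv_mem hh) v).1 hv)
    calc v * (h * u * h⁻¹) = h * (h⁻¹ * v * h * u) * h⁻¹ := by group
      _ = _ := by rw [h1]; group
  exact mem_normalizer_iff.2 fun u => ⟨key g hg u, fun hu => by
    simpa [mul_assoc] using key _ (inv_mem hg) _ hu⟩

theorem mem_normalizer_T {g : G} (hg : g ∈ normalizer ((C x : Subgroup G) : Set G)) (s : ℕ) :
    g ∈ normalizer ((T s x : Subgroup G) : Set G) :=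
  mem_normalizer_part (mem_normalizer_A hg) s

theorem Pt.prime (h : Pt G q r x) : r.Prime := h.1.1

theorem Pt.coprime (h : Pt G q r x) (hq : q.Prime) : (orderOf x).Coprime q :=
  coprime_of_isS hq h.1.1 h.1.2.1 h.2.1

theorem Pt.conj (h : Pt G q r x) (g : G) : Pt G q r (g * x * g⁻¹) :=
  ⟨h.1, isS_conj h.2.1 g, conj_notMem_center h.2.2 g⟩

namespace Two

variable (h : Two G q n)

include h

theorem exists_pt (hs : other' G q s) : ∃ y : G, Pt G q s y := by
  haveI := Fact.mk hs.1
  obtain ⟨y, -, hys, hyc⟩ := exists_isS_notMem (s := s) (H := (⊤ : Subgroup G)) (Z := center G) (by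
    refine lt_of_lt_of_le hs.2.2 (le_of_eq ?_)
    show _ = (Nat.card (⊤ : Subgroup G)).factorization s
    rw [Subgroup.card_top])
  exact ⟨y, hs, hys, hyc⟩

theorem ex_eq (hx : (orderOf x).Coprime q) (hxc : x ∉ center G) (hy : (orderOf y).Coprime q)
    (hyc : y ∉ center G) (s : ℕ) : ex s (C x) = ex s (C y) := by
  have e : Nat.card (C x) = Nat.card (C y) := by
    have h1 := (C x).card_mul_index
    rw [← (C y).card_mul_index] at h1
    change Nat.card (C x) * k x = Nat.card (C y) * k y at h1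
    rw [h.sizes x hx hxc, h.sizes y hy hyc] at h1
    exact Nat.eq_of_mul_eq_mul_right (h.sizes x hx hxc ▸ k_pos x) h1
  show (Nat.card _).factorization s = _
  rw [e]

theorem rich (hx : (orderOf x).Coprime q) (hxc : x ∉ center G) (hs : other' G q s) :
    ex s (center G) < ex s (C x) := by
  haveI := Fact.mk hs.1
  obtain ⟨y, hy⟩ := h.exists_pt hs
  rw [h.ex_eq hx hxc (hy.coprime h.prime) hy.2.2 s]
  exact ex_center_lt (center_le_C y) (self_mem_C y) hy.2.1 hy.2.2

theorem C_eq_regular {w v : G} (hw : (orderOf w).Coprime q) (hwc : w ∉ center G)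
    (hv : (orderOf v).Coprime q) (hvc : v ∉ center G) (hle : C w ≤ C v) : C w = C v :=
  C_eq_of_le hle ((h.sizes w hw hwc).trans (h.sizes v hv hvc).symm).le

theorem rigid_ne (hx : Pt G q r x) (ha : Pt G q t a) (hrt : r ≠ t) (hmem : a ∈ C x) : C a = C x := by
  have hc : Commute x a := mem_C.1 hmem
  have hco := coprime_isS hx.prime ha.prime hrt hx.2.1 ha.2.1
  have e := C_mul hc hco
  have hreg : (orderOf (x * a)).Coprime q := by
    rw [hc.orderOf_mul_eq_mul_orderOf_of_coprime hco]
    exact (hx.coprime h.prime).mul_left (ha.coprime h.prime)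
  have hne : x * a ∉ center G := fun hcn => hx.2.2 (Subgroup.mem_center_iff.2 fun g => by
    have h1 : g ∈ C (x * a) := mem_C.2 (Subgroup.mem_center_iff.1 hcn g).symm
    rw [e] at h1
    exact ((mem_C.1 (mem_inf.1 h1).1).eq).symm)
  have e1 := h.C_eq_regular hreg hne (hx.coprime h.prime) hx.2.2 (e ▸ inf_le_left)
  have e2 := h.C_eq_regular hreg hne (ha.coprime h.prime) ha.2.2 (e ▸ inf_le_right)
  exact e2.symm.trans e1

/-- Commuting noncentral regular elements of prime power order have the same centraliser. -/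
theorem rigid (hx : Pt G q r x) (ha : Pt G q t a) (hmem : a ∈ C x) : C a = C x := by
  by_cases hrt : r = t
  swap
  · exact h.rigid_ne hx ha hrt hmem
  obtain ⟨u, v, hu, hv, huv⟩ := h.two
  obtain ⟨w, hw, hwr⟩ : ∃ w, other' G q w ∧ w ≠ r := by
    by_cases hur : u = r
    · exact ⟨v, hv, fun e => huv (hur.trans e.symm)⟩
    · exact ⟨u, hu, hur⟩
  haveI := Fact.mk hw.1
  obtain ⟨y, hy, hys, hyc⟩ := exists_isS_notMem (h.rich (hx.coprime h.prime) hx.2.2 hw)
  have hy' : Pt G q w y := ⟨hw, hys, hyc⟩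
  have e := h.rigid_ne hx hy' hwr.symm hy
  exact (h.rigid_ne hy' ha (hrt ▸ hwr) (e.ge hmem)).trans e

theorem C_eq_of_mem {w : G} (hx : Pt G q r x) (hw : (orderOf w).Coprime q) (hwc : w ∉ center G)
    (hmem : w ∈ C x) : C w = C x := by
  obtain ⟨t, a, ht, haw, has, hac⟩ := exists_part w hwc
  have htq : t ≠ q := fun e => hac (by
    rw [eq_one_of_isS has (e ▸ hw.coprime_dvd_left (orderOf_dvd_of_mem_zpowers haw))]
    exact one_mem _)
  have ha : Pt G q t a := ⟨other'_of_isS ht htq has hac, has, hac⟩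
  rw [← h.rigid hx ha (zpowers_le.2 hmem haw)]
  exact h.C_eq_regular hw hwc (ha.coprime h.prime) hac (C_le_of_mem_zpowers haw)

theorem mem_A {w : G} (hx : Pt G q r x) (hw : (orderOf w).Coprime q) (hmem : w ∈ C x) : w ∈ A x := by
  refine mem_inf.2 ⟨hmem, mem_centralizer_iff.2 fun v hv => ?_⟩
  by_cases hwc : w ∈ center G
  · exact Subgroup.mem_center_iff.1 hwc v
  · exact (mem_C.1 ((h.C_eq_of_mem hx hw hwc hmem).ge hv)).eq.symm

theorem mem_T (hx : Pt G q r x) (hs : other' G q s) (hws : IsS s a) (hmem : a ∈ C x) : a ∈ T s x :=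
  mem_part (h.mem_A hx (coprime_of_isS h.prime hs.1 hs.2.1 hws) hmem) hws

theorem C_eq_T (hx : Pt G q r x) (hs : other' G q s) (ha : a ∈ T s x) (hac : a ∉ center G) :
    C a = C x := by
  haveI := Fact.mk hs.1
  exact h.rigid hx ⟨hs, isS_of_mem (part_spec (A_comm x)).1 ha, hac⟩ (mem_inf.1 (part_le s _ ha)).1

theorem card_T (hx : Pt G q r x) (hs : other' G q s) : Nat.card (T s x) = s ^ ex s (C x) := by
  haveI := Fact.mk hs.1
  rw [(part_spec (A_comm x)).2]
  refine congrArg _ (le_antisymm (ex_mono s inf_le_left) ?_)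
  obtain ⟨S⟩ : Nonempty (Sylow s (C x)) := inferInstance
  have hle : (S : Subgroup (C x)).map (C x).subtype ≤ A x := by
    rintro _ ⟨u, hu, rfl⟩
    exact part_le s _ (h.mem_T hx hs (isS_of_mem (S.2.map _) (mem_map_of_mem _ hu)) u.2)
  have h1 := Subgroup.card_dvd_of_le hle
  rw [card_map_of_injective (C x).subtype_injective, S.card_eq_multiplicity] at h1
  exact (hs.1.pow_dvd_iff_le_factorization Nat.card_pos.ne').1 h1

theorem T_not_le (hx : Pt G q r x) (hs : other' G q s) : ¬ T s x ≤ center G := fun hle => by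
  haveI := Fact.mk hs.1
  obtain ⟨a, ha, has, hac⟩ := exists_isS_notMem (h.rich (hx.coprime h.prime) hx.2.2 hs)
  exact hac (hle (h.mem_T hx hs has ha))

theorem mem_normalizer (hx : Pt G q r x) (hs : other' G q s) {g : G} (ha : a ∈ T s x)
    (hac : a ∉ center G) (hg : g * a * g⁻¹ ∈ T s x) : g ∈ normalizer ((C x : Subgroup G) : Set G) := by
  have h1 := h.C_eq_T hx hs ha hac
  rw [← h1]
  exact mem_normalizer_of_C_eq ((h.C_eq_T hx hs hg (conj_notMem_center hac g)).trans h1.symm)

/-- A prime power subgroup normalising a centraliser has index at most the prime over it. -/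
theorem card_le (hx : Pt G q r x) (hs : other' G q s) {S : Subgroup G} (hS : IsPGroup s S)
    (hle : T s x ≤ S) (hn : S ≤ normalizer ((C x : Subgroup G) : Set G)) :
    Nat.card S ≤ s * Nat.card (T s x) := by
  haveI := Fact.mk hs.1
  by_cases heq : T s x = S
  · rw [← heq]; exact Nat.le_mul_of_pos_left _ hs.1.pos
  obtain ⟨u, v, hu, hv, huv⟩ := h.two
  obtain ⟨t, ht, hts⟩ : ∃ w, other' G q w ∧ w ≠ s := by
    by_cases hus : u = s
    · exact ⟨v, hv, fun e => huv (hus.trans e.symm)⟩
    · exact ⟨u, hu, hus⟩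
  haveI := Fact.mk ht.1
  obtain ⟨l₀, hl₀, hlc⟩ := SetLike.not_le_iff_exists.1 (h.T_not_le hx ht)
  have hab := A_comm x
  have hnB : S ≤ normalizer ((T s x : Subgroup G) : Set G) := fun g hg => mem_normalizer_T (hn hg) s
  have hidx : (T s x).relIndex S = s := by
    refine CoprimeSizes.relIndex_eq_prime (L := T t x) hS hle hnB heq
      (fun g hg => mem_normalizer_T (hn hg) t)
      (fun u hu v hv => commute_of_isComm hab (part_le t _ hu) (part_le t _ hv))
      (fun u hu v hv => commute_of_isComm hab (part_le s _ hu) (part_le t _ hv)) ?_ ?_ hl₀ hlc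
      (coprime_of_isS hs.1 ht.1 hts (isS_of_mem (part_spec hab).1 hl₀))
    · intro u hu huB l hl huc
      by_contra hlc'
      refine huB (h.mem_T hx hs (isS_of_mem hS hu) ?_)
      rw [← h.C_eq_T hx ht hl hlc']
      exact mem_C.2 huc.symm
    · intro u hu
      obtain ⟨v, hv, hvc, hvs, hcomm⟩ := exists_commutator_central hS hle hnB (h.T_not_le hx hs)
      refine h.mem_T hx hs (isS_of_mem hS (pow_mem hu s)) ?_
      rw [← h.C_eq_T hx hs hv hvc]
      exact pow_mem_C (hcomm u hu) hvs
  have e := ((T s x).subgroupOf S).card_mul_index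
  rw [Nat.card_congr (Subgroup.subgroupOfEquivOfLe hle).toEquiv] at e
  change Nat.card (T s x) * (T s x).relIndex S = _ at e
  rw [hidx, mul_comm] at e
  exact e.ge

/-- A centraliser without a full Sylow subgroup is normalised by an outside element. -/
theorem exists_normalizing (hx : Pt G q r x) (hs : other' G q s)
    (hlt : ex s (C x) < (Nat.card G).factorization s) :
    ∃ g ∈ normalizer ((C x : Subgroup G) : Set G), IsS s g ∧ g ∉ C x := by
  haveI := Fact.mk hs.1
  have hcard := h.card_T hx hs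
  have h1 : s ^ (ex s (C x) + 1) ∣ Nat.card (normalizer ((T s x : Subgroup G) : Set G)) :=
    Sylow.prime_pow_dvd_card_normalizer
      ((hs.1.pow_dvd_iff_le_factorization Nat.card_pos.ne').2 hlt) hcard
  have h2 : ex s (T s x) < ex s (normalizer ((T s x : Subgroup G) : Set G)) := by
    have e : ex s (T s x) = ex s (C x) := by
      show (Nat.card (T s x)).factorization s = _
      rw [hcard, hs.1.factorization_pow, Finsupp.single_eq_same]
    rw [e]
    exact (hs.1.pow_dvd_iff_le_factorization Nat.card_pos.ne').1 h1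
  obtain ⟨g, hg, hgs, hgp⟩ := exists_isS_notMem h2
  obtain ⟨a, ha, hac⟩ := SetLike.not_le_iff_exists.1 (h.T_not_le hx hs)
  exact ⟨g, h.mem_normalizer hx hs ha hac ((mem_normalizer_iff.1 hg a).1 ha), hgs,
    fun hgC => hgp (h.mem_T hx hs hgs hgC)⟩

/-- Every Sylow subgroup for a prime other than `q` normalises a centraliser. -/
theorem exists_layer (hs : other' G q s) [Fact s.Prime] (R : Sylow s G) :
    ∃ v : G, Pt G q s v ∧ (R : Subgroup G) ≤ normalizer ((C v : Subgroup G) : Set G) ∧
      T s v ≤ (R : Subgroup G) ∧ Nat.card (R : Subgroup G) ≤ s * Nat.card (T s v) := by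
  have hR : ¬ (R : Subgroup G) ≤ center G := fun hle => absurd
    ((hs.1.pow_dvd_iff_le_factorization Nat.card_pos.ne').1
      (R.card_eq_multiplicity ▸ Subgroup.card_dvd_of_le hle)) (not_le.2 hs.2.2)
  obtain ⟨v, hv, hvc, -, hcomm⟩ := exists_commutator_central R.2 le_rfl le_normalizer hR
  have hvP : Pt G q s v := ⟨hs, isS_of_mem R.2 hv, hvc⟩
  have hn : (R : Subgroup G) ≤ normalizer ((C v : Subgroup G) : Set G) :=
    fun g hg => CoprimeSizes.mem_normalizer_C (hcomm g hg)
  have hle : T s v ≤ (R : Subgroup G) := by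
    rw [← R.3 ((R.2).to_sup_of_normal_right' (part_spec (A_comm v)).1
      fun g hg => mem_normalizer_T (hn hg) s) le_sup_left]
    exact le_sup_right
  exact ⟨v, hvP, hn, hle, h.card_le hvP hs R.2 hle hn⟩

theorem conj_layer (hx : Pt G q r x) (hs : other' G q s) [Fact s.Prime] (R : Sylow s G) {v : G}
    (hv : Pt G q s v) (hRv : (R : Subgroup G) ≤ normalizer ((C v : Subgroup G) : Set G))
    (hvle : T s v ≤ (R : Subgroup G)) (hcard : Nat.card (R : Subgroup G) ≤ s * Nat.card (T s v))
    (hbig : ex s (center G) + 2 ≤ ex s (C x) ∨ ex s (C x) = (Nat.card G).factorization s) :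
    ∃ g : G, C (g * x * g⁻¹) = C v := by
  obtain ⟨R', hR'⟩ := (part_spec (s := s) (A_comm x)).1.exists_le_sylow
  obtain ⟨g, hg⟩ := MulAction.exists_smul_eq G R' R
  refine ⟨g, ?_⟩
  obtain ⟨x', hx'⟩ : ∃ x', x' = g * x * g⁻¹ := ⟨_, rfl⟩
  rw [← hx']
  have hxP : Pt G q r x' := hx' ▸ hx.conj g
  have hex : ex s (C x') = ex s (C x) :=
    h.ex_eq (hxP.coprime h.prime) hxP.2.2 (hx.coprime h.prime) hx.2.2 s
  have hp' := (part_spec (s := s) (A_comm x')).1
  have hle : T s x' ≤ (R : Subgroup G) := by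
    intro u hu
    have hus := isS_of_mem hp' hu
    have hu' : g⁻¹ * u * g ∈ C x := by
      have h1 := (mem_inf.1 (part_le s _ hu)).1
      rw [hx', C_conj_eq] at h1
      obtain ⟨w, hw, rfl⟩ := h1
      simpa [mul_assoc] using hw
    have h2 : g⁻¹ * u * g ∈ T s x := h.mem_T hx hs (by simpa using isS_conj hus g⁻¹) hu'
    rw [← hg, Sylow.coe_subgroup_smul]
    exact ⟨g⁻¹ * u * g, hR' h2, by simp [mul_assoc]⟩
  by_contra hne
  have hint : T s x' ⊓ T s v ≤ center G := fun a ha => by_contra fun hac =>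
    hne ((h.C_eq_T hxP hs (mem_inf.1 ha).1 hac).symm.trans (h.C_eq_T hv hs (mem_inf.1 ha).2 hac))
  rcases hbig with hbig | hfull
  · have hn : T s x' ≤ normalizer ((T s v : Subgroup G) : Set G) :=
      fun u hu => mem_normalizer_T (hRv (hle hu)) s
    have h1 := Solvable.card_sup_mul_card_inf hn
    have h2 : Nat.card ↥(T s x' ⊔ T s v) ≤ s * Nat.card (T s v) :=
      (Nat.le_of_dvd Nat.card_pos (Subgroup.card_dvd_of_le (sup_le hle hvle))).trans hcard
    have h3 : Nat.card ↥(T s x' ⊓ T s v) ≤ s ^ ex s (center G) := by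
      obtain ⟨j, hj⟩ := (hp'.to_le (inf_le_left (b := T s v))).exists_card_eq
      rw [hj]
      exact Nat.pow_le_pow_right hs.1.pos
        ((hs.1.pow_dvd_iff_le_factorization Nat.card_pos.ne').1 (hj ▸ Subgroup.card_dvd_of_le hint))
    have h4 : Nat.card (T s x') * Nat.card (T s v) ≤
        s ^ (ex s (center G) + 1) * Nat.card (T s v) := by
      rw [← h1, pow_succ, mul_assoc, mul_comm (s ^ _)]
      exact Nat.mul_le_mul h2 h3
    have h5 := Nat.le_of_mul_le_mul_right h4 Nat.card_pos
    rw [h.card_T hxP hs, hex, Nat.pow_le_pow_iff_right hs.1.one_lt] at h5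
    omega
  · refine h.T_not_le hv hs (le_trans (le_inf (hvle.trans (le_of_eq ?_)) le_rfl) hint)
    exact (Subgroup.eq_of_le_of_card_ge hle (by
      rw [h.card_T hxP hs, hex, hfull, R.card_eq_multiplicity])).symm

/-- An element of a larger prime centralises a minimal part. -/
theorem prime_le (hx : Pt G q r x) (hπt : other' G q t) [hs : Fact s.Prime] (hts : t < s)
    (hsmall : ex t (C x) = ex t (center G) + 1) {g : G}
    (hgn : g ∈ normalizer ((C x : Subgroup G) : Set G)) (hgs : IsS s g) : g ∈ C x := by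
  haveI ht := Fact.mk hπt.1
  obtain ⟨a, ha, hac⟩ := SetLike.not_le_iff_exists.1 (h.T_not_le hx hπt)
  obtain ⟨hp, -⟩ := part_spec (s := t) (A_comm x)
  have hpc := h.card_T hx hπt
  have hat := isS_of_mem hp ha
  obtain ⟨Q, hQ⟩ : ∃ Q, Q = (T t x).map (pr : G →* G ⧸ center G) := ⟨_, rfl⟩
  have hQc : Nat.card Q ≤ t := by
    have hZc : IsMulCommutative (center G) := inferInstance
    obtain ⟨hpz, hpzc⟩ := part_spec (s := t) hZc
    have hle : part t (center G) ≤ T t x := (closure_le _).2 fun z hz =>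
      h.mem_T hx hπt hz.2 (center_le_C x hz.1)
    have e1 : Nat.card Q = (center G).relIndex (T t x) := by
      rw [hQ, ← Subgroup.relIndex_bot_left, ← Subgroup.map_bot (pr : G →* G ⧸ center G),
        Subgroup.relIndex_map_map]
      simp [QuotientGroup.ker_mk']
    have e2 : Nat.card ↥((center G).subgroupOf (T t x)) * Nat.card Q = Nat.card (T t x) := by
      rw [e1]; exact ((center G).subgroupOf (T t x)).card_mul_index
    have h3 : Nat.card (part t (center G)) ≤ Nat.card ↥((center G).subgroupOf (T t x)) := by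
      rw [← Nat.card_congr (Subgroup.subgroupOfEquivOfLe hle).toEquiv]
      exact Nat.le_of_dvd Nat.card_pos
        (Subgroup.card_dvd_of_le (Subgroup.comap_mono (part_le t (center G))))
    have h4 := Nat.mul_le_mul_right (Nat.card Q) h3
    rw [e2, hpzc, hpc, hsmall, pow_succ] at h4
    exact Nat.le_of_mul_le_mul_left h4 (pow_pos ht.out.pos _)
  have haQ : pr a ∈ Q := hQ ▸ mem_map_of_mem _ ha
  have ha1 : pr a ≠ 1 := fun e => hac (pr_eq_one.1 e)
  have hzQ : zpowers (pr a) = Q := by
    refine Subgroup.eq_of_le_of_card_ge (zpowers_le.2 haQ) (hQc.trans ?_)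
    rw [Nat.card_zpowers]
    obtain ⟨i, hi⟩ := isS_map (pr : G →* G ⧸ center G) hat
    rw [hi]
    exact Nat.le_of_dvd (pow_pos ht.out.pos i) (dvd_pow_self t fun i0 => ha1 (orderOf_eq_one_iff.1 (by
      rw [hi, i0, pow_zero])))
  have hconj : pr g * pr a * (pr g)⁻¹ ∈ zpowers (pr a) := by
    rw [hzQ, hQ, ← map_inv, ← map_mul, ← map_mul]
    exact mem_map_of_mem _ ((mem_normalizer_iff.1 (mem_normalizer_T hgn t) a).1 ha)
  have hord : orderOf (pr a) = t := by
    refine orderOf_eq_prime (orderOf_dvd_iff_pow_eq_one.1 ?_) ha1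
    rw [← Nat.card_zpowers, hzQ]
    obtain ⟨j, hj⟩ := (hQ ▸ hp.map _ : IsPGroup t Q).exists_card_eq
    rw [hj] at hQc ⊢
    have : j ≤ 1 := by rwa [← Nat.pow_le_pow_iff_right ht.out.one_lt, pow_one]
    exact (pow_dvd_pow t this).trans (by rw [pow_one])
  have hc : Commute (pr g) (pr a) := by
    refine FGSBSmall.commute_of_totient hconj ?_
    rw [hord, Nat.totient_prime ht.out]
    obtain ⟨i, hi⟩ := isS_map (pr : G →* G ⧸ center G) hgs
    rw [hi]
    refine Nat.Coprime.pow_left i (hs.out.coprime_iff_not_dvd.2 fun hd => ?_)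
    have := Nat.le_of_dvd (by have := ht.out.two_le; omega) hd
    omega
  rw [← h.C_eq_T hx hπt ha hac]
  exact mem_C.2 (commute_of_pr (coprime_isS hs.out ht.out hts.ne' hgs hat) hc).symm

/-- All centralisers are conjugate. -/
theorem one_class (hx : Pt G q r x) (hy : Pt G q t y) : ∃ g : G, C (g * x * g⁻¹) = C y := by
  obtain ⟨u, v, hu, hv, huv⟩ := h.two
  obtain ⟨a, b, ha, hb, hab⟩ : ∃ a b, other' G q a ∧ other' G q b ∧ a < b := by
    rcases lt_or_gt_of_ne huv with hl | hl
    · exact ⟨u, v, hu, hv, hl⟩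
    · exact ⟨v, u, hv, hu, hl⟩
  obtain ⟨s, hs, hbig⟩ : ∃ s, other' G q s ∧
      (ex s (center G) + 2 ≤ ex s (C x) ∨ ex s (C x) = (Nat.card G).factorization s) := by
    by_contra hno
    push Not at hno
    obtain ⟨ha2, hafull⟩ := hno a ha
    obtain ⟨-, hbfull⟩ := hno b hb
    haveI := Fact.mk hb.1
    obtain ⟨g, hg, hgs, hgC⟩ := h.exists_normalizing hx hb (lt_of_le_of_ne (ex_le_top b _) hbfull)
    have hra := h.rich (hx.coprime h.prime) hx.2.2 ha
    exact hgC (h.prime_le hx ha hab (by omega) hg hgs)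
  haveI := Fact.mk hs.1
  obtain ⟨R⟩ : Nonempty (Sylow s G) := inferInstance
  obtain ⟨w, hw, h1, h2, h3⟩ := h.exists_layer hs R
  obtain ⟨g, hg⟩ := h.conj_layer hx hs R hw h1 h2 h3 hbig
  have e := h.ex_eq (hy.coprime h.prime) hy.2.2 (hx.coprime h.prime) hx.2.2 s
  obtain ⟨g', hg'⟩ := h.conj_layer hy hs R hw h1 h2 h3 (e ▸ hbig)
  refine ⟨g'⁻¹ * g, ?_⟩
  have e1 : g'⁻¹ * g * x * (g'⁻¹ * g)⁻¹ = g'⁻¹ * (g * x * g⁻¹) * g'⁻¹⁻¹ := by group
  rw [e1, C_conj_eq, hg, ← hg', ← C_conj_eq]
  congr 1
  group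

/-- Only `q` divides the index of the normaliser. -/
theorem not_dvd_index (hx : Pt G q r x) [hs : Fact s.Prime] (hsq : s ≠ q) :
    ¬ s ∣ (normalizer ((C x : Subgroup G) : Set G)).index := by
  by_cases hπ : other' G q s
  · obtain ⟨R⟩ : Nonempty (Sylow s G) := inferInstance
    obtain ⟨v, hv, hn, -, -⟩ := h.exists_layer hπ R
    obtain ⟨g, hg⟩ := h.one_class hx hv
    intro hd
    refine R.not_dvd_index (hd.trans ?_)
    have e : (normalizer ((C v : Subgroup G) : Set G)).index =
        (normalizer ((C x : Subgroup G) : Set G)).index := by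
      rw [← hg, C_conj_eq, ← Subgroup.map_equiv_normalizer_eq (C x) (MulAut.conj g),
        Subgroup.index_map_of_bijective (MulEquiv.bijective (MulAut.conj g))]
    exact e ▸ Subgroup.index_dvd_of_le hn
  intro hd
  have h1 : (Nat.card G).factorization s ≤ ex s (center G) := not_lt.1 fun hlt => hπ ⟨hs.out, hsq, hlt⟩
  have h2 := ex_mono s ((center_le_C x).trans le_normalizer)
  have e := (normalizer ((C x : Subgroup G) : Set G)).card_mul_index
  have h3 : 0 < (normalizer ((C x : Subgroup G) : Set G)).index.factorization s :=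
    hs.out.factorization_pos_of_dvd Subgroup.index_ne_zero_of_finite hd
  rw [← e, Nat.factorization_mul Nat.card_pos.ne' Subgroup.index_ne_zero_of_finite, Finsupp.add_apply] at h1
  have e1 : ex s (center G) = (Nat.card (center G)).factorization s := rfl
  have e2 : ex s (normalizer ((C x : Subgroup G) : Set G)) =
    (Nat.card (normalizer ((C x : Subgroup G) : Set G))).factorization s := rfl
  omega

/-- The `q`-elements of the centralisers lie in the `q`-core. -/
theorem mem_pCore (hx : Pt G q r x) {w : G} (hw : IsS q w) (hmem : w ∈ C x) :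
    w ∈ Cfsg.pCore q G := by
  haveI := Fact.mk h.prime
  obtain ⟨N, hN⟩ : ∃ N, N = normalizer ((C x : Subgroup G) : Set G) := ⟨_, rfl⟩
  have hidx : ∃ b, N.index = q ^ b := ⟨_, Nat.eq_prime_pow_of_unique_prime_dvd
    Subgroup.index_ne_zero_of_finite fun {d} hd hdd => by
      by_contra hne
      haveI := Fact.mk hd
      exact h.not_dvd_index hx hne (hN ▸ hdd)⟩
  obtain ⟨b, hb⟩ := hidx
  have hCN : C x ≤ N := hN ▸ le_normalizer
  haveI hCn : ((C x).subgroupOf N).Normal := hN ▸ Subgroup.normal_in_normalizer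
  -- the centraliser is the product of its central part and a Sylow subgroup
  obtain ⟨Q⟩ : Nonempty (Sylow q (C x)) := inferInstance
  have hsup : (A x).subgroupOf (C x) ⊔ (Q : Subgroup (C x)) = ⊤ := by
    refine Subgroup.index_eq_one.1 ?_
    by_contra hne
    obtain ⟨d, hd, hdd⟩ := Nat.exists_prime_and_dvd hne
    haveI := Fact.mk hd
    by_cases hdq : d = q
    · subst hdq
      exact Q.not_dvd_index (hdd.trans (Subgroup.index_dvd_of_le le_sup_right))
    obtain ⟨S⟩ : Nonempty (Sylow d (C x)) := inferInstance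
    refine S.not_dvd_index (hdd.trans (Subgroup.index_dvd_of_le (le_trans ?_ le_sup_left)))
    intro u hu
    refine Subgroup.mem_subgroupOf.2 (h.mem_A hx ?_ u.2)
    exact coprime_of_isS h.prime hd hdq (isS_of_mem (S.2.map (C x).subtype) (mem_map_of_mem _ hu))
  have hQn : (Q : Subgroup (C x)).Normal := by
    rw [← Subgroup.normalizer_eq_top_iff, eq_top_iff, ← hsup]
    refine sup_le (fun u hu => mem_normalizer_iff.2 fun v => ?_) le_normalizer
    have hc : u * v * u⁻¹ = v := by
      have h1 := mem_centralizer_iff.1 (mem_inf.1 (Subgroup.mem_subgroupOf.1 hu)).2 v v.2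
      rw [show u * v = v * u from Subtype.ext h1.symm, mul_inv_cancel_right]
    rw [hc]
  haveI := Sylow.unique_of_normal Q hQn
  have hQall : ∀ v : G, IsS q v → v ∈ C x → v ∈ (Q : Subgroup (C x)).map (C x).subtype := by
    intro v hv hvC
    obtain ⟨e, he⟩ := hv
    obtain ⟨R, hR⟩ := (IsPGroup.of_card (p := q) (G := zpowers (⟨v, hvC⟩ : C x)) (n := e)
      (by rw [Nat.card_zpowers, Subgroup.orderOf_mk, he])).exists_le_sylow
    rw [Subsingleton.elim Q R]
    exact ⟨_, hR (mem_zpowers _), rfl⟩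
  obtain ⟨QH, hQH⟩ : ∃ QH, QH = (Q : Subgroup (C x)).map (C x).subtype := ⟨_, rfl⟩
  have hQp : IsPGroup q QH := hQH ▸ Q.2.map _
  have hQN : N ≤ normalizer (QH : Set G) := by
    intro g hg
    rw [hN] at hg
    have key : ∀ m ∈ normalizer ((C x : Subgroup G) : Set G), ∀ v ∈ QH, m * v * m⁻¹ ∈ QH := by
      intro m hm v hv
      rw [hQH]
      exact hQall _ (isS_conj (isS_of_mem hQp hv) m)
        ((mem_normalizer_iff.1 hm v).1 (by rw [hQH] at hv; exact map_subtype_le _ hv))
    exact mem_normalizer_iff.2 fun v => ⟨key g hg v, fun hv => by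
      simpa [mul_assoc] using key _ (inv_mem hg) _ hv⟩
  rw [Fitting.pCore_eq_iInf_sylow, Subgroup.mem_iInf]
  intro P
  obtain ⟨M, hM⟩ : ∃ M, M = N ⊓ (P : Subgroup G) := ⟨_, rfl⟩
  have hMp : IsPGroup q M := hM ▸ P.2.to_le inf_le_right
  have hMN : M ≤ N := hM ▸ inf_le_left
  -- `M` is a Sylow subgroup of `N`
  have hcardM : q ^ (Nat.card G).factorization q ≤ Nat.card M * q ^ b := by
    rw [← P.card_eq_multiplicity, ← hb]
    have h1 := (N.subgroupOf (P : Subgroup G)).card_mul_index
    have h2 : Nat.card (N.subgroupOf (P : Subgroup G)) = Nat.card M := by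
      rw [hM, ← Subgroup.inf_subgroupOf_right,
        Nat.card_congr (Subgroup.subgroupOfEquivOfLe inf_le_right).toEquiv]
    rw [h2] at h1
    rw [← h1]
    refine Nat.mul_le_mul_left _ ?_
    rw [← N.relIndex_top_right]
    exact Subgroup.relIndex_le_of_le_right le_top (by rw [N.relIndex_top_right]; exact Subgroup.index_ne_zero_of_finite)
  have hJ : IsPGroup q ↥(M ⊔ QH) := hMp.to_sup_of_normal_right' hQp (hMN.trans hQN)
  have hJN : M ⊔ QH ≤ N := sup_le hMN (hQH ▸ (map_subtype_le _).trans hCN)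
  have heq : M = M ⊔ QH := by
    refine Subgroup.eq_of_le_of_card_ge le_sup_left ?_
    obtain ⟨j, hj⟩ := hJ.exists_card_eq
    have h1 : q ^ j * q ^ b ∣ Nat.card G := by
      rw [← hj, ← hb, ← N.card_mul_index]
      exact mul_dvd_mul_right (Subgroup.card_dvd_of_le hJN) _
    rw [← pow_add, h.prime.pow_dvd_iff_le_factorization Nat.card_pos.ne'] at h1
    rw [hj]
    refine Nat.le_of_mul_le_mul_right (le_trans ?_ hcardM) (pow_pos h.prime.pos b)
    rw [← pow_add]
    exact Nat.pow_le_pow_right h.prime.pos h1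
  have hwQ : w ∈ M ⊔ QH := mem_sup_right (hQH ▸ hQall w hw hmem)
  rw [← heq, hM] at hwQ
  exact (mem_inf.1 hwQ).2

end Two

end CfsgLib.TwoRegular
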